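import Mathlib
import Groth.Agent.GlueFlatLib.Basic

/-!
Flatness descends along a finite injective map of Noetherian rings (Ferrand).
-/

set_option autoImplicit false
universe u

open TensorProduct

namespace Groth.Agent.FlatDescFiniteLib

set_option maxHeartbeats 400000

variable {R : Type u} [CommRing R]

/-- Injective maps of `A`-modules stay injective when `A ⊗ M` is `A`-flat. -/
theorem inj_of_flat {A : Type u} [CommRing A] [Algebra R A] {M : Type u} [AddCommGroup M]
    [Module R M] [Module.Flat A (A ⊗[R] M)] {X Y : Type u} [AddCommGroup X] [Module R X] [Module A X]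
    [IsScalarTower R A X] [AddCommGroup Y] [Module R Y] [Module A Y] [IsScalarTower R A Y]
    (u : X →ₗ[A] Y) (hu : Function.Injective u) :
    Function.Injective ((u.restrictScalars R).rTensor M) := by
  let cX := AlgebraTensorModule.cancelBaseChange R A A X M
  let cY := AlgebraTensorModule.cancelBaseChange R A A Y M
  have hc : ∀ z, (u.restrictScalars R).rTensor M (cX z) = cY (u.rTensor (A ⊗[R] M) z) := by
    intro z
    induction z using TensorProduct.induction_on with
    | zero => simp
    | add a b ha hb => simp only [map_add, ha, hb]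
    | tmul x w =>
      induction w using TensorProduct.induction_on with
      | zero => simp
      | add a b ha hb => simp only [TensorProduct.tmul_add, map_add, ha, hb]
      | tmul c m => simp [cX, cY]
  intro x y h
  obtain ⟨x, rfl⟩ := cX.surjective x
  obtain ⟨y, rfl⟩ := cX.surjective y
  rw [hc, hc] at h
  rw [Module.Flat.rTensor_preserves_injective_linearMap u hu (cY.injective h)]

/-- Injective maps of modules killed by `K` stay injective when `M/KM` is flat over `R/K`. -/
theorem inj_of_killed {K : Ideal R} {M : Type u} [AddCommGroup M] [Module R M]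
    [Module.Flat (R ⧸ K) ((R ⧸ K) ⊗[R] M)] {X Y : Type u} [AddCommGroup X] [Module R X]
    [AddCommGroup Y] [Module R Y] (hX : ∀ k ∈ K, ∀ x : X, k • x = 0)
    (hY : ∀ k ∈ K, ∀ y : Y, k • y = 0) (u : X →ₗ[R] Y) (hu : Function.Injective u) :
    Function.Injective (u.rTensor M) := by
  have tX : Module.IsTorsionBySet R X K := fun x a => hX a a.2 x
  have tY : Module.IsTorsionBySet R Y K := fun y a => hY a a.2 y
  let := tX.module
  let := tY.module
  have : IsScalarTower R (R ⧸ K) X := tX.isScalarTower
  have : IsScalarTower R (R ⧸ K) Y := tY.isScalarTower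
  let u' : X →ₗ[R ⧸ K] Y := u.extendScalarsOfSurjective Ideal.Quotient.mk_surjective
  exact inj_of_flat (R := R) u' hu

theorem killed_inj {F M : Type u} [AddCommGroup F] [Module R F] [Module.Flat R F] [AddCommGroup M]
    [Module R M] (g : F →ₗ[R] M) (hg : Function.Surjective g) (K : Ideal R)
    [Module.Flat (R ⧸ K) ((R ⧸ K) ⊗[R] M)] (hK : Function.Injective (K.subtype.rTensor M))
    (N : Type u) [AddCommGroup N] [Module R N] (hN : ∀ k ∈ K, ∀ x : N, k • x = 0) :
    Function.Injective ((LinearMap.ker g).subtype.lTensor N) := by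
  have tN : Module.IsTorsionBySet R N K := fun x a => hN a a.2 x
  let := tN.module
  have : IsScalarTower R (R ⧸ K) N := tN.isScalarTower
  refine Groth.Agent.GlueFlatLib.inj_of_tower (C := R ⧸ K) g hg ?_
  rw [LinearMap.lTensor_inj_iff_rTensor_inj]
  have hex : Function.Exact (LinearMap.ker g).subtype g := g.exact_subtype_ker_map
  refine Groth.Agent.GlueFlatLib.chase (F := R) (M := R ⧸ K) (Submodule.mkQ K)
    (Submodule.mkQ_surjective K) (X := LinearMap.ker g) (Y := F) (C := M)
    (LinearMap.ker g).subtype Subtype.val_injective g hg hex ?_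
  rw [LinearMap.lTensor_inj_iff_rTensor_inj, Submodule.ker_mkQ]
  exact hK

/-- Injectivity of `i ⊗ ·` passes to extensions. -/
theorem inj_ext {X F Q : Type u} [AddCommGroup X] [Module R X] [AddCommGroup F] [Module R F]
    [Module.Flat R F] [AddCommGroup Q] [Module R Q] (i : X →ₗ[R] F) (N : Submodule R Q)
    (h1 : Function.Injective (i.lTensor N)) (h2 : Function.Injective (i.lTensor (Q ⧸ N))) :
    Function.Injective (i.lTensor Q) := by
  rw [injective_iff_map_eq_zero]
  intro z hz
  have hz2 : N.mkQ.rTensor X z = 0 := by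
    apply h2
    rw [map_zero, ← LinearMap.comp_apply, LinearMap.lTensor_comp_rTensor,
      ← LinearMap.rTensor_comp_lTensor, LinearMap.comp_apply, hz, map_zero]
  obtain ⟨w, rfl⟩ := (rTensor_exact X (LinearMap.exact_subtype_mkQ N) N.mkQ_surjective z).1 hz2
  rw [← LinearMap.comp_apply, LinearMap.lTensor_comp_rTensor, ← LinearMap.rTensor_comp_lTensor,
    LinearMap.comp_apply] at hz
  rw [h1 ((Module.Flat.rTensor_preserves_injective_linearMap N.subtype Subtype.val_injective
    (hz.trans (map_zero _).symm)).trans (map_zero _).symm), map_zero]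

theorem smul_killed {J L : Ideal R} (hJL : ∀ a ∈ J, ∀ b ∈ L, a * b = 0) {Q : Type u}
    [AddCommGroup Q] [Module R Q] (k : R) (hk : k ∈ L) (x : (J • ⊤ : Submodule R Q)) : k • x = 0 := by
  refine Subtype.ext ?_
  change k • (x : Q) = 0
  refine Submodule.smul_induction_on (p := fun z : Q => k • z = 0) x.2 (fun a ha y _ => ?_)
    (fun a b ha hb => by rw [smul_add, ha, hb, add_zero])
  rw [← mul_smul, mul_comm, hJL a ha k hk, zero_smul]

theorem quot_killed {J : Ideal R} {Q : Type u} [AddCommGroup Q] [Module R Q] (k : R) (hk : k ∈ J)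
    (x : Q ⧸ (J • ⊤ : Submodule R Q)) : k • x = 0 := by
  obtain ⟨x, rfl⟩ := Submodule.mkQ_surjective _ x
  rw [← map_smul]
  exact (Submodule.Quotient.mk_eq_zero _).2 (Submodule.smul_mem_smul hk trivial)

theorem inj_all {F M : Type u} [AddCommGroup F] [Module R F] [Module.Flat R F] [AddCommGroup M]
    [Module R M] (g : F →ₗ[R] M) (hg : Function.Surjective g) {J L : Ideal R}
    (hJL : ∀ a ∈ J, ∀ b ∈ L, a * b = 0)
    [Module.Flat (R ⧸ J) ((R ⧸ J) ⊗[R] M)] [Module.Flat (R ⧸ L) ((R ⧸ L) ⊗[R] M)]
    (hJ : Function.Injective (J.subtype.rTensor M)) (hL : Function.Injective (L.subtype.rTensor M))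
    (Q : Type u) [AddCommGroup Q] [Module R Q] :
    Function.Injective ((LinearMap.ker g).subtype.lTensor Q) :=
  inj_ext _ (J • ⊤ : Submodule R Q) (killed_inj g hg L hL _ (smul_killed hJL))
    (killed_inj g hg J hJ _ quot_killed)

/-- Dévissage: two ideals with product zero. -/
theorem flat_of_mul_eq_bot {J L : Ideal R} (hJL : ∀ a ∈ J, ∀ b ∈ L, a * b = 0)
    (M : Type u) [AddCommGroup M] [Module R M]
    [Module.Flat (R ⧸ J) ((R ⧸ J) ⊗[R] M)] [Module.Flat (R ⧸ L) ((R ⧸ L) ⊗[R] M)]
    (hJ : Function.Injective ((J.subtype).rTensor M))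
    (hL : Function.Injective ((L.subtype).rTensor M)) : Module.Flat R M := by
  rw [Module.Flat.iff_rTensor_preserves_injective_linearMap]
  intro X Y _ _ _ _ u hu
  exact Groth.Agent.GlueFlatLib.chase (Finsupp.linearCombination R (id : M → M))
    (fun m => ⟨Finsupp.single m 1, by simp⟩) u hu _ (Submodule.mkQ_surjective _)
    (LinearMap.exact_map_mkQ_range u)
    (inj_all _ (fun m => ⟨Finsupp.single m 1, by simp⟩) hJL hJ hL _)

/-- `M/KM` is flat over `R/K` whenever `K` is the contraction of an ideal of `S`. -/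
def QuotFlat (R : Type u) [CommRing R] (M : Type u) [AddCommGroup M] [Module R M] (S : Type u)
    [CommRing S] [Algebra R S] : Prop :=
  ∀ T : Ideal S, T.comap (algebraMap R S) ≠ ⊥ →
    Module.Flat (R ⧸ T.comap (algebraMap R S)) ((R ⧸ T.comap (algebraMap R S)) ⊗[R] M)

section cases

variable {S : Type u} [CommRing S] [Algebra R S] (hinj : Function.Injective (algebraMap R S))
  {M : Type u} [AddCommGroup M] [Module R M] [Module.Flat S (S ⊗[R] M)]

include hinj

theorem flat_of_not_domain (hq : QuotFlat R M S) {x y : R} (hx : x ≠ 0) (hy : y ≠ 0)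
    (hxy : x * y = 0) : Module.Flat R M := by
  let Tx : Ideal S := Ideal.span {algebraMap R S x}
  let Ty : Ideal S := Ideal.span {algebraMap R S y}
  have hprod : ∀ s ∈ Tx, ∀ t ∈ Ty, s * t = 0 := by
    intro s hs t ht
    obtain ⟨s, rfl⟩ := Ideal.mem_span_singleton'.1 hs
    obtain ⟨t, rfl⟩ := Ideal.mem_span_singleton'.1 ht
    rw [mul_mul_mul_comm, ← map_mul, hxy, map_zero, mul_zero]
  have hne : ∀ z : R, z ≠ 0 → (Ideal.span {algebraMap R S z}).comap (algebraMap R S) ≠ ⊥ :=
    fun z hz h => hz ((Ideal.mem_bot).1 (h ▸ Ideal.mem_span_singleton_self (algebraMap R S z)))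
  have := hq Tx (hne x hx)
  have := hq Ty (hne y hy)
  have hinjJ : ∀ (T U : Ideal S), (∀ s ∈ T, ∀ t ∈ U, s * t = 0) →
      Module.Flat (R ⧸ U.comap (algebraMap R S)) ((R ⧸ U.comap (algebraMap R S)) ⊗[R] M) →
      Function.Injective ((T.comap (algebraMap R S)).subtype.rTensor M) := by
    intro T U hTU _
    let u : T.comap (algebraMap R S) →ₗ[R] T :=
      ((Algebra.linearMap R S).comp (T.comap (algebraMap R S)).subtype).codRestrict
        (T.restrictScalars R) fun r => r.2
    have hu : Function.Injective u := fun a b h => Subtype.ext (hinj (congrArg Subtype.val h))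
    have h1 : Function.Injective (u.rTensor M) := inj_of_killed (K := U.comap (algebraMap R S))
      (fun k hk r => Subtype.ext (hinj (by
        change algebraMap R S (k * r) = algebraMap R S 0
        rw [map_mul, map_zero, mul_comm, hTU _ r.2 _ hk])))
      (fun k hk t => Subtype.ext (by
        change k • (t : S) = 0
        rw [Algebra.smul_def, mul_comm, hTU _ t.2 _ hk])) u hu
    have h2 : Function.Injective ((T.subtype.restrictScalars R).rTensor M) :=
      inj_of_flat (A := S) T.subtype Subtype.val_injective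
    refine Function.Injective.of_comp (f := (Algebra.linearMap R S).rTensor M) ?_
    rw [← LinearMap.coe_comp, ← LinearMap.rTensor_comp]
    have : (Algebra.linearMap R S).comp (T.comap (algebraMap R S)).subtype =
        (T.subtype.restrictScalars R).comp u := LinearMap.ext fun _ => rfl
    rw [this, LinearMap.rTensor_comp, LinearMap.coe_comp]
    exact h2.comp h1
  exact flat_of_mul_eq_bot (J := Tx.comap (algebraMap R S)) (L := Ty.comap (algebraMap R S))
    (fun a ha b hb => hinj (by rw [map_mul, map_zero]; exact hprod _ ha _ hb)) M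
    (hinjJ Tx Ty hprod ‹_›) (hinjJ Ty Tx (fun s hs t ht => by rw [mul_comm]; exact hprod t ht s hs) ‹_›)

/-- The domain case: `a = θ 1` for some `θ : S → R`, regular on `S`. -/
theorem flat_of_retraction [IsNoetherianRing R] [Module.Finite R S] (hq : QuotFlat R M S)
    (θ : S →ₗ[R] R) (ha : θ 1 ≠ 0) (hreg : ∀ s : S, θ 1 • s = 0 → s = 0)
    (hpow : ∀ m : ℕ, θ 1 ^ m ≠ 0) : Module.Flat R M := by
  rw [Module.Flat.iff_rTensor_injective']
  intro J
  suffices h : Function.Injective (((Algebra.linearMap R S).comp J.subtype).rTensor M) by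
    rw [LinearMap.rTensor_comp, LinearMap.coe_comp] at h
    exact h.of_comp
  let JS : Ideal S := J.map (algebraMap R S)
  let u : J →ₗ[R] JS :=
    ((Algebra.linearMap R S).comp J.subtype).codRestrict (JS.restrictScalars R)
      fun r => Ideal.mem_map_of_mem _ r.2
  have hθ : ∀ s ∈ JS, θ s ∈ J := by
    intro s hs
    have : ∀ t : S, θ (t * s) ∈ J := by
      induction hs using Submodule.span_induction with
      | mem x hx =>
        obtain ⟨r, hr, rfl⟩ := hx
        intro t
        rw [mul_comm, ← Algebra.smul_def, map_smul, smul_eq_mul]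
        exact J.mul_mem_right _ hr
      | zero => intro t; rw [mul_zero, map_zero]; exact J.zero_mem
      | add x y _ _ hx hy => intro t; rw [mul_add, map_add]; exact add_mem (hx t) (hy t)
      | smul c x _ hx => intro t; rw [smul_eq_mul, ← mul_assoc]; exact hx _
    simpa using this 1
  let v : JS →ₗ[R] J := (θ.comp (JS.subtype.restrictScalars R)).codRestrict J fun s => hθ _ s.2
  have hvu : ∀ j : J, v (u j) = θ 1 • j := fun j => Subtype.ext (by
    change θ (algebraMap R S j) = θ 1 * j
    rw [Algebra.algebraMap_eq_smul_one, map_smul, smul_eq_mul, mul_comm])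
  let ι := (Algebra.linearMap R S).comp J.subtype
  have hkill : ∀ w, ι.rTensor M w = 0 → θ 1 • w = 0 := by
    intro w hw
    have h0 : u.rTensor M w = 0 := by
      apply inj_of_flat (A := S) JS.subtype Subtype.val_injective
      rw [map_zero, ← LinearMap.rTensor_comp_apply]
      exact hw
    have h1 : v.rTensor M (u.rTensor M w) = θ 1 • w := by
      rw [← LinearMap.rTensor_comp_apply,
        show v.comp u = θ 1 • LinearMap.id from LinearMap.ext fun j => hvu j,
        LinearMap.rTensor_smul, LinearMap.smul_apply, LinearMap.rTensor_id, LinearMap.id_apply]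
    rw [← h1, h0, map_zero]
  -- Artin–Rees
  let J' : Submodule R S := LinearMap.range ι
  obtain ⟨c, hc⟩ := (Ideal.span {θ 1}).exists_pow_inf_eq_pow_smul J'
  let T : Ideal S := Ideal.span {algebraMap R S (θ 1 ^ (c + 1))}
  let K := T.comap (algebraMap R S)
  have hK : K ≠ ⊥ := fun h => hpow (c + 1)
    ((Ideal.mem_bot).1 (h ▸ (show θ 1 ^ (c + 1) ∈ K from Ideal.mem_span_singleton_self _)))
  have := hq T hK
  let J₀ : Submodule R J := Submodule.comap J.subtype K
  have hJ₀ : ∀ x ∈ J₀, ∃ x' : J, x = θ 1 • x' := by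
    intro x hx
    obtain ⟨s, hs⟩ := Ideal.mem_span_singleton'.1 (show algebraMap R S (x : R) ∈ T from hx)
    have h1 : ι x ∈ (Ideal.span {θ 1}) ^ (c + 1) • (⊤ : Submodule R S) ⊓ J' := by
      refine ⟨?_, x, rfl⟩
      change algebraMap R S (x : R) ∈ _
      rw [← hs, mul_comm, ← Algebra.smul_def]
      exact Submodule.smul_mem_smul (Ideal.pow_mem_pow (Ideal.mem_span_singleton_self _) _) trivial
    rw [hc (c + 1) (Nat.le_succ c), Nat.add_sub_cancel_left, pow_one,
      Submodule.ideal_span_singleton_smul] at h1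
    obtain ⟨z, ⟨-, x', rfl⟩, hz⟩ := Submodule.mem_smul_pointwise_iff_exists _ _ _ |>.1 h1
    exact ⟨x', Subtype.ext (hinj (by
      change algebraMap R S (x : R) = algebraMap R S (θ 1 * x')
      rw [map_mul, ← Algebra.smul_def]
      exact hz.symm))⟩
  rw [injective_iff_map_eq_zero]
  intro w hw
  let ι' : J ⧸ J₀ →ₗ[R] S ⧸ T.restrictScalars R :=
    J₀.mapQ (T.restrictScalars R) ι fun x hx => hx
  have hι' : Function.Injective ι' := by
    rw [injective_iff_map_eq_zero]
    intro q hq'
    obtain ⟨q, rfl⟩ := Submodule.mkQ_surjective _ q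
    exact (Submodule.Quotient.mk_eq_zero _).2
      (show algebraMap R S (q : R) ∈ T from (Submodule.Quotient.mk_eq_zero (T.restrictScalars R)).1 hq')
  have h1 : Function.Injective (ι'.rTensor M) := inj_of_killed (K := K)
    (fun k hk q => by
      obtain ⟨q, rfl⟩ := Submodule.mkQ_surjective _ q
      rw [← map_smul]
      exact (Submodule.Quotient.mk_eq_zero _).2 (show k • (q : R) ∈ K from K.mul_mem_right _ hk))
    (fun k hk q => by
      obtain ⟨q, rfl⟩ := Submodule.mkQ_surjective _ q
      rw [← map_smul]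
      exact (Submodule.Quotient.mk_eq_zero _).2 (by
        change k • q ∈ T
        rw [Algebra.smul_def]; exact T.mul_mem_right _ hk)) ι' hι'
  have hw0 : J₀.mkQ.rTensor M w = 0 := by
    apply h1
    rw [map_zero, ← LinearMap.rTensor_comp_apply,
      show ι'.comp J₀.mkQ = (T.restrictScalars R).mkQ.comp ι from LinearMap.ext fun _ => rfl,
      LinearMap.rTensor_comp_apply, hw, map_zero]
  obtain ⟨w₀, rfl⟩ := (rTensor_exact M (LinearMap.exact_subtype_mkQ J₀) J₀.mkQ_surjective w).1 hw0
  obtain ⟨w', hw'⟩ : ∃ w', J₀.subtype.rTensor M w₀ = θ 1 • w' := by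
    clear hw hw0
    induction w₀ using TensorProduct.induction_on with
    | zero => exact ⟨0, by simp⟩
    | add a b ha hb =>
      obtain ⟨a', ha'⟩ := ha
      obtain ⟨b', hb'⟩ := hb
      exact ⟨a' + b', by rw [map_add, ha', hb', smul_add]⟩
    | tmul x m =>
      obtain ⟨x', hx'⟩ := hJ₀ x x.2
      exact ⟨x' ⊗ₜ m, by rw [LinearMap.rTensor_tmul, Submodule.subtype_apply, hx', TensorProduct.smul_tmul']⟩
  rw [hw'] at hw ⊢
  apply hkill
  rw [map_smul] at hw
  let μ : S →ₗ[S] S := LinearMap.mulLeft S (algebraMap R S (θ 1))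
  have hμ : Function.Injective μ := by
    rw [injective_iff_map_eq_zero]
    intro s hs
    exact hreg s (by rw [Algebra.smul_def]; exact hs)
  apply inj_of_flat (R := R) (M := M) μ hμ
  rw [map_zero, show μ.restrictScalars R = θ 1 • LinearMap.id from
    LinearMap.ext fun s => (Algebra.smul_def (θ 1) s).symm, LinearMap.rTensor_smul,
    LinearMap.smul_apply, LinearMap.rTensor_id, LinearMap.id_apply]
  exact hw

end cases

end Groth.Agent.FlatDescFiniteLib
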