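import Mathlib
import Groth.Agent.FlatDescFiniteLib.Basic

/-!
Flatness descends along a finite injective map of Noetherian rings: the Noetherian induction.
-/

set_option autoImplicit false
universe u

open TensorProduct

namespace Groth.Agent.FlatDescFiniteLib

set_option maxHeartbeats 400000

/-- The statement to be proved, for one base ring. -/
def Desc (R : Type u) [CommRing R] : Prop :=
  ∀ (S : Type u) [CommRing S] [Algebra R S] [Module.Finite R S],
    Function.Injective (algebraMap R S) → ∀ (M : Type u) [AddCommGroup M] [Module R M],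
      Module.Flat S (S ⊗[R] M) → Module.Flat R M

theorem flat_tensor_of_flat {R S S' : Type u} [CommRing R] [CommRing S] [CommRing S'] [Algebra R S]
    [Algebra S S'] [Algebra R S'] [IsScalarTower R S S'] (M : Type u) [AddCommGroup M] [Module R M]
    [Module.Flat S (S ⊗[R] M)] : Module.Flat S' (S' ⊗[R] M) :=
  Module.Flat.of_linearEquiv (AlgebraTensorModule.cancelBaseChange R S S' S' M).symm

theorem quotFlat_of_desc {R : Type u} [CommRing R]
    (IH : ∀ K : Ideal R, K ≠ ⊥ → Desc (R ⧸ K)) (S : Type u) [CommRing S] [Algebra R S]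
    [Module.Finite R S] (M : Type u) [AddCommGroup M] [Module R M] [Module.Flat S (S ⊗[R] M)] :
    QuotFlat R M S := by
  intro T hT
  have : Module.Finite (R ⧸ T.comap (algebraMap R S)) (S ⧸ T) :=
    Module.Finite.of_restrictScalars_finite R _ _
  refine IH _ hT (S ⧸ T) Ideal.algebraMap_quotient_injective _ ?_
  have := flat_tensor_of_flat (S := S) (S' := S ⧸ T) (R := R) M
  exact Module.Flat.of_linearEquiv
    (AlgebraTensorModule.cancelBaseChange R (R ⧸ T.comap (algebraMap R S)) (S ⧸ T) (S ⧸ T) M)

theorem exists_dual {R : Type u} [CommRing R] [IsNoetherianRing R] [IsDomain R] (S : Type u)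
    [CommRing S] [Algebra R S] [Module.Finite R S]
    (hinj : Function.Injective (algebraMap R S)) : ∃ θ : S →ₗ[R] R, θ 1 ≠ 0 := by
  let P := nonZeroDivisors R
  let l := LocalizedModule.mkLinearMap P S
  have hv : l 1 ≠ 0 := fun h => by
    obtain ⟨c, hc⟩ := (IsLocalizedModule.eq_zero_iff P l).1 h
    rw [Submonoid.smul_def, Algebra.smul_def, mul_one] at hc
    exact nonZeroDivisors.coe_ne_zero c (hinj (hc.trans (map_zero _).symm))
  obtain ⟨φ, hφ⟩ : ∃ φ : LocalizedModule P S →ₗ[FractionRing R] FractionRing R, φ (l 1) ≠ 0 := by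
    by_contra! h
    exact hv ((Module.forall_dual_apply_eq_zero_iff (FractionRing R) (l 1)).1 h)
  have : Module.FinitePresentation R S := Module.finitePresentation_of_finite R S
  obtain ⟨h, c, hc⟩ := Module.FinitePresentation.exists_lift_of_isLocalizedModule P
    (Algebra.linearMap R (FractionRing R)) ((φ.restrictScalars R).comp l)
  refine ⟨h, fun h0 => hφ ?_⟩
  have h1 := LinearMap.congr_fun hc 1
  rw [LinearMap.comp_apply, h0, map_zero, LinearMap.smul_apply, LinearMap.comp_apply,
    LinearMap.restrictScalars_apply, Submonoid.smul_def, Algebra.smul_def] at h1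
  exact (mul_eq_zero.1 h1.symm).resolve_left fun h2 =>
    nonZeroDivisors.coe_ne_zero c (IsFractionRing.injective R (FractionRing R) (h2.trans (map_zero _).symm))

theorem desc_step {R : Type u} [CommRing R] [IsNoetherianRing R]
    (IH : ∀ K : Ideal R, K ≠ ⊥ → Desc (R ⧸ K)) : Desc R := by
  intro S _ _ _ hinj M _ _ _
  rcases subsingleton_or_nontrivial R with hR | hR
  · have := Module.subsingleton R M
    infer_instance
  by_cases hdom : NoZeroDivisors R
  · have : IsDomain R := NoZeroDivisors.to_isDomain R
    obtain ⟨Q, -, hQ, hQ'⟩ := Ideal.exists_ideal_over_prime_of_isIntegral (⊥ : Ideal R) (⊥ : Ideal S)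
      (le_of_eq ((RingHom.ker_eq_comap_bot _).symm.trans ((RingHom.injective_iff_ker_eq_bot _).1 hinj)))
    have hinj' : Function.Injective (algebraMap R (S ⧸ Q)) := by
      rw [injective_iff_map_eq_zero]
      intro r hr
      rw [IsScalarTower.algebraMap_apply R S (S ⧸ Q), Ideal.Quotient.algebraMap_eq,
        Ideal.Quotient.eq_zero_iff_mem, ← Ideal.mem_comap, hQ', Ideal.mem_bot] at hr
      exact hr
    have : Module.Finite R (S ⧸ Q) := Module.Finite.of_surjective
      (Ideal.Quotient.mkₐ R Q).toLinearMap Ideal.Quotient.mk_surjective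
    have : Module.Flat (S ⧸ Q) ((S ⧸ Q) ⊗[R] M) := flat_tensor_of_flat (S := S) M
    obtain ⟨θ, hθ⟩ := exists_dual (S ⧸ Q) hinj'
    refine flat_of_retraction hinj' (quotFlat_of_desc IH (S ⧸ Q) M) θ hθ (fun s hs => ?_)
      (fun m => pow_ne_zero m hθ)
    rw [Algebra.smul_def] at hs
    exact (mul_eq_zero.1 hs).resolve_left fun h => hθ (hinj' (h.trans (map_zero _).symm))
  · obtain ⟨x, y, hxy, hx, hy⟩ : ∃ x y : R, x * y = 0 ∧ x ≠ 0 ∧ y ≠ 0 := by
      by_contra! h
      exact hdom ⟨fun {a b} hab => or_iff_not_imp_left.2 fun ha => h a b hab ha⟩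
    exact flat_of_not_domain hinj (quotFlat_of_desc IH S M) hx hy hxy

theorem desc (R : Type u) [CommRing R] [IsNoetherianRing R] : Desc R := by
  suffices key : ∀ I : Ideal R, ∀ (R' : Type u) [CommRing R'] (π : R →+* R'),
      Function.Surjective π → RingHom.ker π = I → Desc R' from
    key ⊥ R (RingHom.id R) Function.surjective_id
      ((RingHom.injective_iff_ker_eq_bot _).1 Function.injective_id)
  intro I
  induction I using WellFoundedGT.induction with
  | ind I ih =>
    intro R' _ π hπ hker
    have := isNoetherianRing_of_surjective R R' π hπ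
    refine desc_step fun K hK => ih (RingHom.ker ((Ideal.Quotient.mk K).comp π)) ?_ (R' ⧸ K)
      ((Ideal.Quotient.mk K).comp π) (Ideal.Quotient.mk_surjective.comp hπ) rfl
    rw [← RingHom.comap_ker, Ideal.mk_ker, ← hker, RingHom.ker_eq_comap_bot]
    exact lt_of_le_of_ne (Ideal.comap_mono bot_le) fun h =>
      hK ((Ideal.comap_injective_of_surjective π hπ h).symm)

end Groth.Agent.FlatDescFiniteLib
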